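import Groth.Agent.Lib.EGA2.Graded

/-!
A graded algebra of finite type whose pieces eventually are powers of the degree-one piece.
-/

set_option autoImplicit false

open DirectSum SetLike Pointwise

universe u

namespace Groth.Agent.DegOne11

variable {R B : Type u} [CommRing R] [CommRing B] [Algebra R B]

/-- If `X ^ a` and `Y ^ b` carry `T` into the powers of `P`, so does `(X ⊔ Y) ^ (a + b)`. -/
theorem sup_pow_mul_le {X Y P T : Submodule R B} (hX : X ≤ P) (hY : Y ≤ P) {a b d : ℕ}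
    (ha : X ^ a * T ≤ P ^ (a + d)) (hb : Y ^ b * T ≤ P ^ (b + d)) :
    (X ⊔ Y) ^ (a + b) * T ≤ P ^ (a + b + d) := by
  rw [← Submodule.add_eq_sup, add_pow, Finset.sum_mul]
  refine Finset.sum_induction _ (fun Z => Z ≤ P ^ (a + b + d)) (fun x y hx hy => sup_le hx hy) bot_le fun m hm => ?_
  have hm' : m ≤ a + b := Nat.lt_succ_iff.1 (Finset.mem_range.1 hm)
  have key : X ^ m * Y ^ (a + b - m) * T ≤ P ^ (a + b + d) := by
    rcases le_or_gt a m with h | h
    · obtain ⟨c, rfl⟩ := Nat.exists_eq_add_of_le h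
      calc X ^ (a + c) * Y ^ (a + b - (a + c)) * T
          = (X ^ c * Y ^ (a + b - (a + c))) * (X ^ a * T) := by ring
        _ ≤ (P ^ c * P ^ (a + b - (a + c))) * P ^ (a + d) := by gcongr
        _ = P ^ (a + b + d) := by rw [← pow_add, ← pow_add]; congr 1; omega
    · obtain ⟨c, hc⟩ : ∃ c, a + b - m = b + c := ⟨a - m, by omega⟩
      rw [hc]
      calc X ^ m * Y ^ (b + c) * T = (X ^ m * Y ^ c) * (Y ^ b * T) := by ring
        _ ≤ (P ^ m * P ^ c) * P ^ (b + d) := by gcongr
        _ = P ^ (a + b + d) := by rw [← pow_add, ← pow_add]; congr 1; omega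
  refine le_trans ?_ key
  refine mul_le_mul' ?_ le_rfl
  rcases Nat.eq_zero_or_pos ((a + b).choose m) with h0 | h0
  · rw [h0, Nat.cast_zero, mul_zero]; exact bot_le
  · rw [← nsmul_eq_mul']
    refine le_of_eq ?_
    obtain ⟨k, hk⟩ := Nat.exists_eq_succ_of_ne_zero h0.ne'
    rw [hk]
    clear hk
    induction k with
    | zero => simp
    | succ k ih => rw [succ_nsmul, ih, Submodule.add_eq_sup, sup_idem]

variable (ℬ : ℕ → Submodule R B) [GradedAlgebra ℬ]

theorem pow_le (n : ℕ) : ℬ 1 ^ n ≤ ℬ n := by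
  induction n with
  | zero =>
    rw [pow_zero, Submodule.one_eq_range]
    rintro _ ⟨r, rfl⟩
    exact SetLike.algebraMap_mem_graded ℬ r
  | succ n ih =>
    rw [pow_succ]
    exact (mul_le_mul' ih le_rfl).trans (Submodule.mul_le.2 fun a ha b hb => SetLike.mul_mem_graded ha hb)

theorem zero_mul_pow_le {n : ℕ} (hn : 0 < n) : ℬ 0 * ℬ 1 ^ n ≤ ℬ 1 ^ n := by
  obtain ⟨k, rfl⟩ := Nat.exists_eq_succ_of_ne_zero hn.ne'
  rw [pow_succ, mul_comm (ℬ 1 ^ k), ← mul_assoc]
  refine mul_le_mul' ?_ le_rfl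
  exact Submodule.mul_le.2 fun a ha b hb => (zero_add 1) ▸ SetLike.mul_mem_graded ha hb

theorem mem_sum_of_mem_span {ι : Type*} (s : Finset ι) (e : ι → B) (d : ι → ℕ) (he : ∀ i ∈ s, e i ∈ ℬ (d i))
    {x : B} (hx : x ∈ Ideal.span (e '' (s : Set ι))) {n : ℕ} (hxn : x ∈ ℬ n) :
    x ∈ ⨆ i ∈ s, ⨆ (_ : d i ≤ n), ℬ (n - d i) * Submodule.span R {e i} := by
  classical
  have main : ∀ y ∈ Ideal.span (e '' (s : Set ι)), ∀ z : B, (decompose ℬ (z * y) n : B) ∈
      ⨆ i ∈ s, ⨆ (_ : d i ≤ n), ℬ (n - d i) * Submodule.span R {e i} := by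
    intro y hy
    induction hy using Submodule.span_induction with
    | mem y hy =>
      obtain ⟨i, hi, rfl⟩ := hy
      intro z
      rw [coe_decompose_mul_of_right_mem ℬ n (he i hi)]
      split_ifs with h
      · exact Submodule.mem_iSup_of_mem i (Submodule.mem_iSup_of_mem hi (Submodule.mem_iSup_of_mem h
          (Submodule.mul_mem_mul (decompose ℬ z (n - d i)).2 (Submodule.mem_span_singleton_self _))))
      · exact zero_mem _
    | zero => intro z; simp
    | add a b _ _ ha hb => intro z; simpa [mul_add] using add_mem (ha z) (hb z)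
    | smul c a _ ha => intro z; simpa [smul_eq_mul, mul_assoc] using ha (z * c)
  have := main x hx 1
  rwa [one_mul, decompose_of_mem_same ℬ hxn] at this

/-- `B_n = B_1 ^ n` for large `n`, if every element is carried into the powers of `B_1` by powers of each element of degree one. -/
theorem eventually_eq_pow [Algebra.FiniteType (ℬ 0) B]
    (hrad : ∀ (d : ℕ), 0 < d → ∀ x ∈ ℬ d, x ∈ (Ideal.span (ℬ 1 : Set B)).radical)
    (hloc : ∀ g ∈ ℬ 1, ∀ (d : ℕ), ∀ x ∈ ℬ d, ∃ N, g ^ N * x ∈ ℬ 1 ^ (N + d)) :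
    ∃ n₀ : ℕ, ∀ n : ℕ, n₀ ≤ n → ℬ n = ℬ 1 ^ n := by
  classical
  obtain ⟨s, hE, -, hspan⟩ := EGA2.exists_homogeneous_gens ℬ
  choose! d hd hmem using hE
  have himg : Ideal.span ((id : B → B) '' (s : Set B)) = (HomogeneousIdeal.irrelevant ℬ).toIdeal := by
    rw [Set.image_id, hspan]
  have hdec : ∀ n, 0 < n → ℬ n ≤ ⨆ i ∈ s, ⨆ (_ : d i ≤ n), ℬ (n - d i) * Submodule.span R {i} := fun n hn x hx =>
    mem_sum_of_mem_span ℬ s id d hmem (himg ▸ EGA2.mem_irr_of_mem ℬ hn hx) hx
  -- the degree one piece is spanned by the generators of degree one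
  have h1 : ℬ 1 ≤ (s.filter fun i => d i = 1).sup fun i => ℬ 0 * Submodule.span R {i} := by
    refine (hdec 1 one_pos).trans (iSup₂_le fun i hi => iSup_le fun h => ?_)
    have hi1 : d i = 1 := le_antisymm h (hd i hi)
    rw [hi1, Nat.sub_self]
    exact Finset.le_sup (f := fun i => ℬ 0 * Submodule.span R {i}) (Finset.mem_filter.2 ⟨hi, hi1⟩)
  have hgen : ∀ i ∈ s.filter (fun i => d i = 1), ℬ 0 * Submodule.span R {i} ≤ ℬ 1 := by
    intro i hi
    obtain ⟨hi, hi1⟩ := Finset.mem_filter.1 hi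
    refine Submodule.mul_le.2 fun a ha b hb => ?_
    obtain ⟨r, rfl⟩ := Submodule.mem_span_singleton.1 hb
    have := SetLike.mul_mem_graded ha (Submodule.smul_mem _ r (hmem i hi))
    rwa [zero_add, hi1] at this
  have hgenN : ∀ i ∈ s, ∃ N, 0 < N ∧ ℬ 1 ^ N * Submodule.span R {i} ≤ ℬ 1 ^ (N + d i) := by
    intro t ht
    have key : ∀ F : Finset B, F ⊆ s.filter (fun i => d i = 1) → ∃ N, 0 < N ∧
        (F.sup fun i => ℬ 0 * Submodule.span R {i}) ^ N * Submodule.span R {t} ≤ ℬ 1 ^ (N + d t) := by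
      intro F
      induction F using Finset.induction_on with
      | empty => exact fun _ => ⟨1, one_pos, by simp⟩
      | @insert g F _ ih =>
        intro hF
        obtain ⟨a, ha, hX⟩ := ih ((Finset.subset_insert g F).trans hF)
        have hg := hF (Finset.mem_insert_self g F)
        obtain ⟨hgs, hg1⟩ := Finset.mem_filter.1 hg
        have hg' : g ∈ ℬ 1 := hg1 ▸ hmem g hgs
        obtain ⟨b, hb⟩ := hloc g hg' (d t) t (hmem t ht)
        have hY : (ℬ 0 * Submodule.span R {g}) ^ (b + 1) * Submodule.span R {t} ≤ ℬ 1 ^ (b + 1 + d t) := by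
          rw [mul_pow, mul_assoc, Submodule.span_pow, Set.singleton_pow, Submodule.span_mul_span, Set.singleton_mul_singleton]
          have h0 : ∀ k : ℕ, ∀ m : ℕ, 0 < m → ℬ 0 ^ k * ℬ 1 ^ m ≤ ℬ 1 ^ m := by
            intro k
            induction k with
            | zero => intro m _; rw [pow_zero, one_mul]
            | succ k ihk =>
              intro m hm
              rw [pow_succ, mul_assoc]
              exact (mul_le_mul' le_rfl (zero_mul_pow_le ℬ hm)).trans (ihk m hm)
          refine le_trans (mul_le_mul' le_rfl ?_) (h0 _ _ (by omega))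
          rw [Submodule.span_singleton_le_iff_mem, pow_succ', mul_assoc,
            show b + 1 + d t = 1 + (b + d t) by omega, pow_add, pow_one]
          exact Submodule.mul_mem_mul hg' hb
        refine ⟨a + (b + 1), by omega, ?_⟩
        rw [Finset.sup_insert, sup_comm]
        exact sup_pow_mul_le (Finset.sup_le fun i hi => hgen i (hF (Finset.mem_insert_of_mem hi))) (hgen g hg) hX hY
    obtain ⟨N, hN, h⟩ := key _ le_rfl
    exact ⟨N, hN, le_trans (mul_le_mul' (pow_le_pow_left' h1 N) le_rfl) h⟩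
  choose! Ng hNg hgenN' using hgenN
  have P : ∀ n, ∃ N, 0 < N ∧ ∀ M, N ≤ M → ℬ 1 ^ M * ℬ n ≤ ℬ 1 ^ (M + n) := by
    intro n
    induction n using Nat.strong_induction_on with
    | _ n ih =>
      rcases Nat.eq_zero_or_pos n with rfl | hn
      · exact ⟨1, one_pos, fun M hM => by rw [mul_comm, add_zero]; exact zero_mul_pow_le ℬ hM⟩
      have ih' : ∀ i ∈ s, ∃ N, 0 < N ∧ (d i ≤ n → ∀ M, N ≤ M → ℬ 1 ^ M * ℬ (n - d i) ≤ ℬ 1 ^ (M + (n - d i))) := by
        intro i hi
        have hdi := hd i hi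
        by_cases h : d i ≤ n
        · obtain ⟨N, hN, hN'⟩ := ih (n - d i) (by omega)
          exact ⟨N, hN, fun _ => hN'⟩
        · exact ⟨1, one_pos, fun h' => absurd h' h⟩
      choose! Nr hNr hNr' using ih'
      refine ⟨(s.sup fun i => Ng i + Nr i) + 1, by omega, fun M hM => ?_⟩
      refine (mul_le_mul' le_rfl (hdec n hn)).trans ?_
      simp only [Submodule.mul_iSup]
      refine iSup₂_le fun i hi => iSup_le fun h => ?_
      have hMi : Ng i + Nr i ≤ M := (Finset.le_sup (f := fun i => Ng i + Nr i) hi).trans (by omega)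
      obtain ⟨c, rfl⟩ := Nat.exists_eq_add_of_le (show Ng i ≤ M by omega)
      calc ℬ 1 ^ (Ng i + c) * (ℬ (n - d i) * Submodule.span R {i})
          = (ℬ 1 ^ c * ℬ (n - d i)) * (ℬ 1 ^ Ng i * Submodule.span R {i}) := by ring
        _ ≤ ℬ 1 ^ (c + (n - d i)) * ℬ 1 ^ (Ng i + d i) := mul_le_mul' (hNr' i hi h c (by omega)) (hgenN' i hi)
        _ = ℬ 1 ^ (Ng i + c + n) := by rw [← pow_add]; congr 1; omega
  -- large degrees come from degree one
  set I := Ideal.span (ℬ 1 : Set B) with hI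
  have hle : (HomogeneousIdeal.irrelevant ℬ).toIdeal ≤ I.radical := by
    rw [hspan]; exact Ideal.span_le.2 fun i hi => hrad (d i) (hd i hi) i (hmem i hi)
  obtain ⟨K, hK⟩ := Ideal.exists_pow_le_of_le_radical_of_fg hle ⟨s, hspan.symm⟩
  let D := s.sup d
  have hdeep : ∀ k n, k * D < n → ∀ x ∈ ℬ n, x ∈ (HomogeneousIdeal.irrelevant ℬ).toIdeal ^ (k + 1) := by
    intro k
    induction k with
    | zero => intro n hn x hx; rw [zero_add, pow_one]; exact EGA2.mem_irr_of_mem ℬ (by omega) hx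
    | succ k ihk =>
      intro n hn x hx
      have hS : (⨆ i ∈ s, ⨆ (_ : d i ≤ n), ℬ (n - d i) * Submodule.span R {i}) ≤
          ((HomogeneousIdeal.irrelevant ℬ).toIdeal ^ (k + 1 + 1)).restrictScalars R := by
        refine iSup₂_le fun i hi => iSup_le fun h => Submodule.mul_le.2 fun a ha b hb => ?_
        obtain ⟨r, rfl⟩ := Submodule.mem_span_singleton.1 hb
        rw [Submodule.restrictScalars_mem, pow_succ _ (k + 1)]
        refine Ideal.mul_mem_mul (ihk (n - d i) ?_ a ha) (EGA2.mem_irr_of_mem ℬ (hd i hi) (Submodule.smul_mem _ r (hmem i hi)))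
        have : d i ≤ D := Finset.le_sup hi
        rw [Nat.succ_mul] at hn
        omega
      exact hS (hdec n (by rw [Nat.succ_mul] at hn; omega) hx)
  have hstep : ∀ n, K * D < n → ℬ (n + 1) ≤ ℬ 1 * ℬ n := by
    intro n hn x hx
    have hxI : x ∈ I := hK (Ideal.pow_le_pow_right (Nat.le_succ K) (hdeep K (n + 1) (by omega) x hx))
    have main : ∀ y ∈ I, ∀ z : B, (decompose ℬ (z * y) (n + 1) : B) ∈ ℬ 1 * ℬ n := by
      intro y hy
      induction hy using Submodule.span_induction with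
      | mem y hy =>
        intro z
        rw [coe_decompose_mul_of_right_mem ℬ (n + 1) hy, if_pos (by omega), Nat.add_sub_cancel, mul_comm]
        exact Submodule.mul_mem_mul (decompose ℬ z n).2 hy
      | zero => intro z; simp
      | add a b _ _ ha hb => intro z; simpa [mul_add] using add_mem (ha z) (hb z)
      | smul c a _ ha => intro z; simpa [smul_eq_mul, mul_assoc] using ha (z * c)
    have := main x hxI 1
    rwa [one_mul, decompose_of_mem_same ℬ hx] at this
  obtain ⟨N, -, hN⟩ := P (K * D + 1)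
  refine ⟨K * D + 1 + N, fun n hn => le_antisymm ?_ (pow_le ℬ n)⟩
  obtain ⟨k, rfl⟩ := Nat.exists_eq_add_of_le hn
  have hiter : ∀ j, ℬ (K * D + 1 + j) ≤ ℬ 1 ^ j * ℬ (K * D + 1) := by
    intro j
    induction j with
    | zero => simp
    | succ j ihj =>
      refine (hstep (K * D + 1 + j) (by omega)).trans ?_
      rw [pow_succ', mul_assoc]
      exact mul_le_mul' le_rfl ihj
  rw [show K * D + 1 + N + k = K * D + 1 + (N + k) by omega]
  refine (hiter (N + k)).trans ((hN (N + k) (by omega)).trans (le_of_eq ?_))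
  rw [add_comm]

end Groth.Agent.DegOne11
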